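import Cfsg.Agent.H201.Fi.Arith2

/-!
# The degrees of `Fi24'` divisible by 29 and at most 33074 (helper871)

* `numE` : characters which extend to `Fi24`;
* `numS` : characters which do not extend.
-/

set_option autoImplicit false
set_option maxRecDepth 100000

namespace Cfsg.Agent.H871.LD

open Cfsg.Agent.H201.Fi

/-- the candidates -/
def cd : List ℕ := [783, 1276, 2668, 3451, 3944, 5220, 7395, 7888, 10556, 11339, 14007, 14790, 19227, 20010, 22678,
  26622, 27405]

theorem cd_all : (List.range 1141).all (fun k => k == 0 || k == 299 || !okE (29 * k) || cd.contains (29 * k)) = true := by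
  decide +kernel

theorem mem_cd {n : ℕ} (h : okE n = true) (h29 : 29 ∣ n) (h0 : 0 < n) (hn : n ≤ 33074) (hne : n ≠ 8671) : n ∈ cd := by
  obtain ⟨k, rfl⟩ := h29
  have hk : k < 1141 := by omega
  have h1 := List.all_eq_true.1 cd_all k (List.mem_range.2 hk)
  have e1 : (k == 0) = false := by rw [beq_eq_false_iff_ne]; omega
  have e2 : (k == 299) = false := by rw [beq_eq_false_iff_ne]; omega
  rw [e1, e2, h, Bool.not_true, Bool.false_or, Bool.false_or, Bool.false_or, List.contains_iff_mem] at h1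
  exact h1

theorem chk_cd0 : [783, 1276, 2668, 3451].all chkE2 = true := by decide +kernel
theorem chk_cd1 : [3944, 5220, 7395, 7888].all chkE2 = true := by decide +kernel
theorem chk_cd2 : [10556, 11339, 14007, 14790].all chkE2 = true := by decide +kernel
theorem chk_cd3a : chkE2 19227 = true := by decide +kernel
theorem chk_cd3b : chkE2 20010 = true := by decide +kernel
theorem chk_cd3c : chkE2 22678 = true := by decide +kernel
theorem chk_cd3d : chkE2 26622 = true := by decide +kernel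
theorem chk_cd3e : chkE2 27405 = true := by decide +kernel

theorem chk_cd3 : [19227, 20010, 22678, 26622, 27405].all chkE2 = true := by
  simp only [List.all_cons, List.all_nil, chk_cd3a, chk_cd3b, chk_cd3c, chk_cd3d, chk_cd3e, Bool.and_true]

theorem chk_cd : cd.all chkE2 = true := by
  have h : cd = [783, 1276, 2668, 3451] ++ ([3944, 5220, 7395, 7888] ++ ([10556, 11339, 14007, 14790] ++
    [19227, 20010, 22678, 26622, 27405])) := rfl
  rw [h, List.all_append, List.all_append, List.all_append, chk_cd0, chk_cd1, chk_cd2, chk_cd3]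
  rfl

/-- **the degrees divisible by 29 of the characters which extend** -/
theorem numE {n : ℕ} {u B C : ℤ} (hn : n ∣ 1255205709190661721292800) (h29 : 29 ∣ n) (h0 : 0 < n) (hle : n ≤ 33074)
    (h23 : n % 23 = 0 ∨ n % 23 = 1 ∨ n % 23 = 22 ∨ n % 23 = 11 ∨ n % 23 = 12)
    (h17 : n % 17 = 0 ∨ n % 17 = 1 ∨ n % 17 = 16)
    (hR : (n : ℤ) * (n + 31671 * B + 275264 * C) = 306936 * u ^ 2)
    (p1 : 0 ≤ (n : ℤ) + 351 * B - 352 * C) (p2 : 0 ≤ (n : ℤ) - 81 * B + 80 * C)
    (hu : (n : ℤ) ∣ 306936 * u) (hB : (n : ℤ) ∣ 9720970056 * B) (h3 : (3 : ℤ) ∣ (n : ℤ) - C)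
    (b1 : |B| ≤ n) (u1 : |u| ≤ n) (ne : B ≠ n) (r11 : R11 n B) (r13 : R13 n B) : n = 8671 := by
  by_contra hne
  have hok : okE n = true := by
    rw [okE, Bool.and_eq_true, Bool.and_eq_true]
    refine ⟨?_, ?_, ?_⟩
    · rw [beq_iff_eq]; exact Nat.mod_eq_zero_of_dvd hn
    · rcases h23 with h | h | h | h | h <;> simp [h]
    · rcases h17 with h | h | h <;> simp [h]
  have h4 := List.all_eq_true.1 chk_cd n (mem_cd hok h29 h0 hle hne)
  have hqd : n / Nat.gcd n 306936 ∣ u.natAbs := by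
    have h5 : n ∣ 306936 * u.natAbs := by
      have := Int.natAbs_dvd_natAbs.2 hu
      rwa [Int.natAbs_mul, Int.natAbs_natCast] at this
    have hg : 0 < Nat.gcd n 306936 := Nat.gcd_pos_of_pos_left _ h0
    have h6 : Nat.Coprime (n / Nat.gcd n 306936) (306936 / Nat.gcd n 306936) := Nat.coprime_div_gcd_div_gcd hg
    apply h6.dvd_of_dvd_mul_left
    obtain ⟨g1, hg1⟩ := Nat.gcd_dvd_left n 306936
    obtain ⟨g2, hg2⟩ := Nat.gcd_dvd_right n 306936
    set g := Nat.gcd n 306936 with hgdef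
    have e5 : n / g = g1 := by rw [hg1]; exact Nat.mul_div_cancel_left _ hg
    have e6 : 306936 / g = g2 := by rw [hg2]; exact Nat.mul_div_cancel_left _ hg
    rw [e5, e6]
    rw [hg1, hg2, mul_assoc] at h5
    exact Nat.dvd_of_mul_dvd_mul_left hg h5
  obtain ⟨j, hj⟩ := hqd
  unfold chkE2 at h4
  set q := n / Nat.gcd n 306936 with hq
  have hq0 : 0 < q := Nat.div_pos (Nat.le_of_dvd h0 (Nat.gcd_dvd_left _ _)) (Nat.gcd_pos_of_pos_left _ h0)
  have hu' : q * j ≤ n := by
    rw [← hj]
    have : ((u.natAbs : ℕ) : ℤ) ≤ (n : ℤ) := by rw [Int.natCast_natAbs]; exact u1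
    exact_mod_cast this
  have hj' : j < n / q + 1 := by
    rw [Nat.lt_succ_iff, Nat.le_div_iff_mul_le hq0, mul_comm]; exact hu'
  have h5 := List.all_eq_true.1 h4 j (List.mem_range.2 hj')
  rw [chkV_false h0 (B := B) (C := C) (by rw [hR, ← hj, Int.natCast_natAbs, sq_abs]) p1 p2 h3 hB b1 ne r11 r13] at h5
  exact absurd h5 (by decide)

/-- the check for `n = 391 k` and the value `γ = i - k` -/
def chkS3 (k : ℕ) : Bool :=
  (List.range (2 * k + 1)).all fun i =>
    let γ : ℤ := (i : ℤ) - k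
    let r : ℤ := -(k : ℤ) - 704 * γ
    !(r % 81 == 0) || !(decide (0 ≤ 391 * (k : ℤ) + 351 * (r / 81) - 352 * γ)) ||
      !(decide (0 ≤ 391 * (k : ℤ) - 81 * (r / 81) + 80 * γ)) || !(decide (3 ∣ 391 * (k : ℤ) - γ)) ||
      !(decide (R11 (391 * (k : ℤ)) (r / 81))) || !(decide (R13 (391 * (k : ℤ)) (r / 81)))

theorem chkS3_all : [29, 58].all chkS3 = true := by decide +kernel

/-- **the degrees divisible by 29 of the characters which do not extend** -/
theorem numS {n : ℕ} {b c : ℤ} (h29 : 29 ∣ n) (h0 : 0 < n) (hle : n ≤ 33074)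
    (hR : (n : ℤ) + 31671 * b + 275264 * c = 0) (p1 : 0 ≤ (n : ℤ) + 351 * b - 352 * c)
    (p2 : 0 ≤ (n : ℤ) - 81 * b + 80 * c) (h3 : (3 : ℤ) ∣ (n : ℤ) - c) (r11 : R11 n b) (r13 : R13 n b) : False := by
  obtain ⟨k, hk⟩ : ∃ k : ℕ, n = 391 * k := by
    have : (391 : ℤ) ∣ (n : ℤ) := ⟨-(81 * b + 704 * c), by linarith⟩
    exact_mod_cast this
  subst hk
  have hk : k < 85 := by omega
  have hk0 : k ≠ 0 := by rintro rfl; simp at h0
  have h29k : 29 ∣ k := by
    have : Nat.Coprime 29 391 := by norm_num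
    exact this.dvd_of_dvd_mul_left h29
  have hk' : k ∈ [29, 58] := by
    simp only [List.mem_cons, List.not_mem_nil, or_false]
    omega
  have h4 := List.all_eq_true.1 chkS3_all k hk'
  rw [chkS3] at h4
  push_cast at hR p1 p2 h3 r11 r13
  have hkk : (k : ℤ) + 81 * b + 704 * c = 0 := by linarith
  have g1 : -(k : ℤ) ≤ c := by omega
  have g2 : c ≤ k := by omega
  have hi : (c + k).toNat < 2 * k + 1 := by omega
  have h5 := List.all_eq_true.1 h4 _ (List.mem_range.2 hi)
  have e4 : (((c + k).toNat : ℕ) : ℤ) - k = c := by omega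
  simp only [e4] at h5
  have e5 : -(k : ℤ) - 704 * c = 81 * b := by linarith
  rw [e5] at h5
  have e6 : 81 * b / 81 = b := by omega
  have e7 : (81 * b % 81 == 0) = true := by rw [beq_iff_eq]; omega
  rw [e6, e7, decide_eq_true p1, decide_eq_true p2, decide_eq_true h3, decide_eq_true r11, decide_eq_true r13] at h5
  simp at h5

end Cfsg.Agent.H871.LD
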