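import Cfsg.Agent.H26.Ore.Fi24Deg
import Cfsg.Agent.H871.LD.Num

/-!
# The degree 8671 of `Fi24'` (helper871)

* `deg_small` : an irreducible character of `Fi24'` of degree at most 33074 divisible by 29 has degree 8671;
* `deg_8671` : if `Fi24'` has a character of degree 66149 which vanishes at the elements of order 29, then it has an
  irreducible character of degree 8671.
-/

set_option autoImplicit false
set_option linter.unusedSectionVars false

open Cfsg
open scoped ComplexConjugate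

namespace Cfsg.Agent.H871.LD

open Subgroup
open Cfsg.Agent.Characters Cfsg.Agent.Characters.Core Cfsg.Agent.OddOrderCharacters
open Cfsg.Agent.H26.Ore.Fi24Deg
open Cfsg.Agent.R08.FiTwentyFour (L index_commutator card_commutator finite_Fi24)
open Cfsg.Agent.H48.OreFi (finite')
open Cfsg.Agent.H845.T13 (facts)
open Cfsg.Agent.H26.Ore

/-- **characters which extend** -/
theorem smallE {χ : IrrCharacter Spor.Fi24'} {psi : IrrCharacter Spor.Fi24} 
    (h : ∀ g : Spor.Fi24', (psi : Spor.Fi24 → ℂ) (g : Spor.Fi24) = (χ : Spor.Fi24' → ℂ) g)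
    (h29 : 29 ∣ charDegree (χ : Spor.Fi24' → ℂ)) (hle : charDegree (χ : Spor.Fi24' → ℂ) ≤ 33074) :
    charDegree (χ : Spor.Fi24' → ℂ) = 8671 := by
  have hfin : Finite Spor.Fi24' := finite'
  have hfin' := finite_Fi24
  have hsim := simple_F'
  have hne : (χ : Spor.Fi24' → ℂ) ≠ 1 := by
    intro h1
    have h2 : charDegree (χ : Spor.Fi24' → ℂ) = 1 := by
      rw [h1]
      simp [charDegree]
    rw [h2] at h29
    norm_num at h29
  obtain ⟨n, u, B, C, V⟩ := H180.PSD.exists_vals psi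
  have hχ1 : (χ : Spor.Fi24' → ℂ) 1 = (charDegree (χ : Spor.Fi24' → ℂ) : ℂ) := Blocks.Knorr.charDegree_eq χ.2
  set N := charDegree (χ : Spor.Fi24' → ℂ) with hN
  have h1 := h 1
  rw [OneMemClass.coe_one, V.one, hχ1] at h1
  have hnN : n = N := by exact_mod_cast h1
  subst hnN
  have hz13 : (χ : Spor.Fi24' → ℂ) z13 = B := by rw [← h]; exact val_z13 V
  have hz11 : (χ : Spor.Fi24' → ℂ) H843.Ore.R11.z = B := by rw [← h]; exact val_z11 V
  have hpos : 0 < N := by exact_mod_cast V.pos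
  refine numE (n := N) (u := u) (B := B) (C := C) ?_ h29 hpos hle (res23 χ) (res17 χ) V.rel V.psd1 V.psd2 V.dvd_u ?_
    (three_psi V) (abs_le χ hχ1 hz13) ?_ ?_ (H843.Ore.R11.r11 χ hχ1 hz11) ?_
  · rw [← card_F']
    exact Blocks.Knorr.charDegree_dvd χ.2
  · obtain ⟨c, hc⟩ := V.dvd_B
    exact ⟨2 * c, by linarith⟩
  · exact abs_le psi (by rw [V.one]; norm_cast) (V.val_d _ facts.hl)
  · intro hB
    have := Fintype.ofFinite Spor.Fi24'
    have h2 := SmallSimple.DihedralNormalizer.eq_one_of_apply_eq χ.2 hne (s := z13) (by rw [hz13, hχ1, hB]; norm_cast)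
    have h3 : (z13 : Spor.Fi24) = 1 := congrArg (fun y : Spor.Fi24' => (y : Spor.Fi24)) h2
    have h4 : H845.T13.u = (Cfsg.Agent.Fischer.Fi24Rep.gen .l)⁻¹ := eq_inv_of_mul_eq_one_right h3
    exact lu_ne (h4.trans (inv_eq_of_mul_eq_one_right facts.ll)).symm
  · exact R13.r13 facts index_commutator (fun d hd => R08.FiTwentyFour.odd hd) _ χ hχ1 hz13

/-- **characters which do not extend** -/
theorem smallS {χ : IrrCharacter Spor.Fi24'} {psi : IrrCharacter Spor.Fi24}
    (h0 : ∀ g : Spor.Fi24, g ∉ commutator Spor.Fi24 → (psi : Spor.Fi24 → ℂ) g = 0)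
    (h2 : ∀ g : Spor.Fi24', ∀ t : Spor.Fi24, t ∉ commutator Spor.Fi24 → Commute t (g : Spor.Fi24) →
      (psi : Spor.Fi24 → ℂ) (g : Spor.Fi24) = 2 * (χ : Spor.Fi24' → ℂ) g)
    (h29 : 29 ∣ charDegree (χ : Spor.Fi24' → ℂ)) (hle : charDegree (χ : Spor.Fi24' → ℂ) ≤ 33074) : False := by
  have hfin : Finite Spor.Fi24' := finite'
  have hfin' := finite_Fi24
  obtain ⟨n, u, B, C, V⟩ := H180.PSD.exists_vals psi
  have hχ1 : (χ : Spor.Fi24' → ℂ) 1 = (charDegree (χ : Spor.Fi24' → ℂ) : ℂ) := Blocks.Knorr.charDegree_eq χ.2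
  set N := charDegree (χ : Spor.Fi24' → ℂ) with hN
  have hl : Cfsg.Agent.Fischer.Fi24Rep.gen .l ∉ commutator Spor.Fi24 := R08.FiTwentyFour.odd facts.hl
  have h1 := h2 1 _ hl (Commute.one_right _)
  rw [OneMemClass.coe_one, V.one, hχ1] at h1
  have hnN : n = 2 * N := by exact_mod_cast h1
  subst hnN
  have hu : u = 0 := by
    have h3 := V.val_d _ facts.hl
    rw [h0 _ hl] at h3
    exact_mod_cast h3.symm
  subst hu
  have e13 := h2 z13 _ hl (by
    show Commute _ (_ * _)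
    exact (Commute.refl _).mul_right facts.lu)
  have e11 := h2 H843.Ore.R11.z _ (R08.FiTwentyFour.odd H843.Ore.R11.t1_mem) (by
    show Commute _ (_ * _)
    exact (Commute.refl _).mul_right H843.D11.c12)
  rw [val_z13 V] at e13
  rw [val_z11 V] at e11
  have hzz : z13 * z13 = 1 := by
    apply Subtype.ext
    have h3 : Commute (Cfsg.Agent.Fischer.Fi24Rep.gen .l) H845.T13.u := facts.lu
    show Cfsg.Agent.Fischer.Fi24Rep.gen .l * H845.T13.u * (Cfsg.Agent.Fischer.Fi24Rep.gen .l * H845.T13.u) = 1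
    rw [h3.symm.mul_mul_mul_comm, facts.ll, facts.uu, mul_one]
  obtain ⟨b, hb⟩ := Nrm.exists_int_invol (isIrr_isCharacter χ.2) hzz
  rw [hb] at e13
  have hB : B = 2 * b := by exact_mod_cast e13
  subst hB
  have hb11 : (χ : Spor.Fi24' → ℂ) H843.Ore.R11.z = b := by
    push_cast at e11
    linear_combination -(1 / 2) * e11
  set w : Spor.Fi24' := ⟨_, R08.FiTwentyFour.even facts.hl facts.hk⟩ with hw
  have ew := h2 w _ (R08.FiTwentyFour.odd facts.hu) (by
    show Commute _ (_ * _)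
    exact (show Commute _ _ from facts.lu.symm).mul_right (show Commute _ _ from facts.ku.symm))
  rw [show (psi : Spor.Fi24 → ℂ) (w : Spor.Fi24) = C from V.val_n _ facts.hl _ facts.hk facts.lkn] at ew
  obtain ⟨c, hc⟩ := Characters.GaloisBasic.exists_int_of_rat (isIrr_isCharacter χ.2) w
    ⟨(C : ℚ) / 2, by push_cast; linear_combination -(1 / 2) * ew⟩
  rw [hc] at ew
  have hC : C = 2 * c := by exact_mod_cast ew
  subst hC
  have hpos := V.pos
  have hrel : (N : ℤ) + 31671 * b + 275264 * c = 0 := by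
    have h3 := V.rel
    have h4 : (2 * (N : ℤ)) * (2 * ((N : ℤ) + 31671 * b + 275264 * c)) = 0 := by linarith
    rcases mul_eq_zero.1 h4 with h5 | h5 <;> omega
  have p1 := V.psd1
  have p2 := V.psd2
  have h3 := three_psi V
  exact numS (n := N) (b := b) (c := c) h29 (by omega) hle hrel (by omega) (by omega) (by omega)
    (H843.Ore.R11.r11 χ hχ1 hb11) (R13.r13 facts index_commutator (fun d hd => R08.FiTwentyFour.odd hd) _ χ hχ1 hb)

/-- **The degrees divisible by 29** -/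
theorem deg_small (χ : IrrCharacter Spor.Fi24') (h29 : 29 ∣ charDegree (χ : Spor.Fi24' → ℂ))
    (hle : charDegree (χ : Spor.Fi24' → ℂ) ≤ 33074) : charDegree (χ : Spor.Fi24' → ℂ) = 8671 := by
  have hfin' := finite_Fi24
  obtain ⟨psi, hpsi, h | ⟨h0, h2⟩⟩ := index_two (commutator Spor.Fi24) index_commutator χ.2
  · exact smallE (psi := ⟨psi, hpsi⟩) h h29 hle
  · exact (smallS (χ := χ) (psi := ⟨psi, hpsi⟩) h0 h2 h29 hle).elim

/-- **The degree 8671** -/
theorem deg_8671 (hW : ∃ W : Spor.Fi24' → ℂ, IsCharacter Spor.Fi24' W ∧ W 1 = 66149 ∧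
    ∀ x : Spor.Fi24', orderOf x = 29 → W x = 0) :
    ∃ χ : IrrCharacter Spor.Fi24', charDegree (χ : Spor.Fi24' → ℂ) = 8671 := by
  classical
  by_contra hno
  push Not at hno
  obtain ⟨W, hWc, hW1, hW29⟩ := hW
  have hfin : Finite Spor.Fi24' := finite'
  have := simple_F'
  have : Finite (IrrCharacter Spor.Fi24') := finite_irr
  have := Fintype.ofFinite (IrrCharacter Spor.Fi24')
  have : Fact (Nat.Prime 29) := ⟨by norm_num⟩
  obtain ⟨x, hx, hc⟩ := H161.Rec.FiTF.cent29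
  obtain ⟨P, Wc, hP, -, hcol, hok⟩ := H653.Sieve.exists_col not_comm card_F' hx (k := 1) (by rw [hc]) 14 2
    [(0, 0), (1, 2), (14, -1), (15, 1), (28, -2)] 2 true (by decide +kernel)
  obtain ⟨m, hm⟩ := exists_nat_comb hWc
  have hdeg : ∀ ψ : IrrCharacter Spor.Fi24', (ψ : Spor.Fi24' → ℂ) 1 = (charDegree (ψ : Spor.Fi24' → ℂ) : ℂ) :=
    fun ψ => Blocks.Knorr.charDegree_eq ψ.2
  -- the two linear equations
  have s1 : ∑ ψ : IrrCharacter Spor.Fi24', m ψ * charDegree (ψ : Spor.Fi24' → ℂ) = 66149 := by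
    have h := congrFun hm 1
    rw [hW1, Finset.sum_apply] at h
    have h' : ((66149 : ℕ) : ℂ) = ((∑ ψ : IrrCharacter Spor.Fi24', m ψ * charDegree (ψ : Spor.Fi24' → ℂ) : ℕ) : ℂ) := by
      push_cast
      rw [h]
      refine Finset.sum_congr rfl fun ψ _ => ?_
      rw [Pi.smul_apply, hdeg, nsmul_eq_mul]
    exact_mod_cast h'.symm
  have := Fintype.ofFinite (P : Subgroup Spor.Fi24')
  have hWP : H653.Sieve.csum (P : Subgroup Spor.Fi24') W = 0 := by
    rw [H653.Sieve.csum_eq_erase]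
    refine Finset.sum_eq_zero fun y hy => hW29 _ ?_
    have hy1 : y ≠ 1 := (Finset.mem_erase.1 hy).1
    rw [Subgroup.orderOf_coe]
    have h5 : y ^ Nat.card (P : Subgroup Spor.Fi24') = 1 := pow_card_eq_one'
    rw [hP] at h5
    exact orderOf_eq_prime h5 hy1
  have s2 : ∑ ψ : IrrCharacter Spor.Fi24', (m ψ : ℤ) * Wc ψ = 0 := by
    have h1 : H653.Sieve.csum (P : Subgroup Spor.Fi24') W =
        ∑ ψ : IrrCharacter Spor.Fi24', (m ψ : ℂ) * H653.Sieve.csum (P : Subgroup Spor.Fi24') (ψ : Spor.Fi24' → ℂ) := by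
      have e : ∀ g : Spor.Fi24', W g = ∑ ψ : IrrCharacter Spor.Fi24', (m ψ : ℂ) * (ψ : Spor.Fi24' → ℂ) g := by
        intro g
        rw [hm, Finset.sum_apply]
        exact Finset.sum_congr rfl fun ψ _ => by rw [Pi.smul_apply, nsmul_eq_mul]
      simp only [H653.Sieve.csum_eq, e, mul_sub, Finset.mul_sum, Finset.sum_sub_distrib]
      rw [Finset.sum_comm]
    rw [hWP] at h1
    have h2 : (14 : ℂ) * ((∑ ψ : IrrCharacter Spor.Fi24', (m ψ : ℤ) * Wc ψ : ℤ) : ℂ) = 0 := by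
      rw [h1]
      push_cast
      rw [Finset.mul_sum]
      refine Finset.sum_congr rfl fun ψ _ => ?_
      rw [← hcol ψ]
      push_cast
      ring
    have h3 : ((∑ ψ : IrrCharacter Spor.Fi24', (m ψ : ℤ) * Wc ψ : ℤ) : ℂ) = 0 :=
      (mul_eq_zero.1 h2).resolve_left (by norm_num)
    exact_mod_cast h3
  -- the trivial character
  obtain ⟨o, ho⟩ : ∃ o : IrrCharacter Spor.Fi24', (o : Spor.Fi24' → ℂ) = 1 := ⟨⟨1, isIrr_one⟩, rfl⟩
  have hdo : charDegree (o : Spor.Fi24' → ℂ) = 1 := by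
    rw [ho]; simp [charDegree]
  have hWo : Wc o = 2 := hok.one o ho
  -- the degrees of the other constituents
  have big : ∀ ψ : IrrCharacter Spor.Fi24', ψ ≠ o → charDegree (ψ : Spor.Fi24' → ℂ) ≤ 66149 →
      33075 ≤ charDegree (ψ : Spor.Fi24' → ℂ) ∧ (Wc ψ = 0 ∨ Wc ψ = 2 ∨ Wc ψ = -2) := by
    intro ψ hψ hle
    have hψ1 : (ψ : Spor.Fi24' → ℂ) ≠ 1 := fun h => hψ (Subtype.ext (h.trans ho.symm))
    have hmem := hok.mem ψ
    have hmem' : (charDegree (ψ : Spor.Fi24' → ℂ) % 29, Wc ψ) ∈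
        ([(0, 0), (1, 2), (14, -1), (15, 1), (28, -2)] : List (ℕ × ℤ)) := hmem
    simp only [List.mem_cons, Prod.mk.injEq, List.not_mem_nil, or_false] at hmem'
    rcases hmem' with ⟨h, hw⟩ | ⟨h, hw⟩ | ⟨h, hw⟩ | ⟨h, hw⟩ | ⟨h, hw⟩
    · refine ⟨?_, Or.inl hw⟩
      by_contra hlt
      exact hno ψ (deg_small ψ (Nat.dvd_of_mod_eq_zero h) (by omega))
    · exact ⟨by have := hDN ψ hψ1 (Or.inl h); omega, Or.inr (Or.inl hw)⟩
    · have := hDX ψ hψ1 (Or.inl h); omega
    · have := hDX ψ hψ1 (Or.inr h); omega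
    · exact ⟨by have := hDN ψ hψ1 (Or.inr h); omega, Or.inr (Or.inr hw)⟩
  have hle : ∀ ψ : IrrCharacter Spor.Fi24', m ψ ≠ 0 → charDegree (ψ : Spor.Fi24' → ℂ) ≤ 66149 := by
    intro ψ hψ
    rw [← s1]
    refine le_trans ?_ (Finset.single_le_sum (f := fun ψ => m ψ * charDegree (ψ : Spor.Fi24' → ℂ))
      (fun _ _ => Nat.zero_le _) (Finset.mem_univ ψ))
    exact Nat.le_mul_of_pos_left _ (Nat.pos_of_ne_zero hψ)
  -- split off the trivial character
  have t1 : m o + ∑ ψ ∈ Finset.univ.erase o, m ψ * charDegree (ψ : Spor.Fi24' → ℂ) = 66149 := by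
    rw [← s1, ← Finset.add_sum_erase _ _ (Finset.mem_univ o), hdo, mul_one]
  have t2 : 2 * (m o : ℤ) + ∑ ψ ∈ Finset.univ.erase o, (m ψ : ℤ) * Wc ψ = 0 := by
    rw [← s2, ← Finset.add_sum_erase _ _ (Finset.mem_univ o), hWo]
    ring
  have hS : ∑ ψ ∈ Finset.univ.erase o, m ψ ≤ 1 := by
    have h1 : (∑ ψ ∈ Finset.univ.erase o, m ψ) * 33075 ≤
        ∑ ψ ∈ Finset.univ.erase o, m ψ * charDegree (ψ : Spor.Fi24' → ℂ) := by
      rw [Finset.sum_mul]
      refine Finset.sum_le_sum fun ψ hψ => ?_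
      by_cases h0 : m ψ = 0
      · rw [h0, Nat.zero_mul, Nat.zero_mul]
      · exact Nat.mul_le_mul_left _ (big ψ (Finset.mem_erase.1 hψ).1 (hle ψ h0)).1
    omega
  by_cases hz : ∀ ψ ∈ Finset.univ.erase o, m ψ = 0
  · rw [Finset.sum_eq_zero fun ψ hψ => by rw [hz ψ hψ, zero_mul]] at t1
    rw [Finset.sum_eq_zero fun ψ hψ => by rw [hz ψ hψ, Nat.cast_zero, zero_mul]] at t2
    omega
  · push Not at hz
    obtain ⟨φ, hφ, hφ0⟩ := hz
    have hother : ∀ ψ ∈ Finset.univ.erase o, ψ ≠ φ → m ψ = 0 := by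
      intro ψ hψ hne
      by_contra h0
      have h1 : m φ + m ψ ≤ ∑ ψ ∈ Finset.univ.erase o, m ψ := by
        rw [← Finset.sum_pair (f := m) hne.symm]
        refine Finset.sum_le_sum_of_subset ?_
        intro a ha
        rw [Finset.mem_insert, Finset.mem_singleton] at ha
        rcases ha with rfl | rfl
        · exact hφ
        · exact hψ
      omega
    have hφ1 : m φ = 1 := by
      have h1 : m φ ≤ ∑ ψ ∈ Finset.univ.erase o, m ψ :=
        Finset.single_le_sum (f := m) (fun _ _ => Nat.zero_le _) hφ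
      omega
    rw [Finset.sum_eq_single_of_mem φ hφ fun ψ hψ hne => by rw [hother ψ hψ hne, zero_mul], hφ1, one_mul] at t1
    rw [Finset.sum_eq_single_of_mem φ hφ fun ψ hψ hne => by rw [hother ψ hψ hne, Nat.cast_zero, zero_mul], hφ1,
      Nat.cast_one, one_mul] at t2
    have hd := Blocks.Knorr.charDegree_dvd φ.2
    rw [card_F'] at hd
    have hb := (big φ (Finset.mem_erase.1 hφ).1 (by omega)).2
    have hc2 : charDegree (φ : Spor.Fi24' → ℂ) = 66149 ∨ charDegree (φ : Spor.Fi24' → ℂ) = 66148 := by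
      rcases hb with h | h | h <;> omega
    rcases hc2 with h | h
    · rw [h] at hd; norm_num at hd
    · rw [h] at hd; norm_num at hd

end Cfsg.Agent.H871.LD
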