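import Cfsg.Agent.H871.LD.Num

/-!
# The degrees of `Fi24'` at most 37960 divisible by 29, and the degrees between 64585 and 69581 (helper871)

* `ECond` : the numerical conditions for a character of `Fi24'` which extends to `Fi24`;
* `SCond` : the numerical conditions for a character which does not extend.
-/

set_option autoImplicit false
set_option maxRecDepth 100000

namespace Cfsg.Agent.H871.LD

open Cfsg.Agent.H201.Fi

/-- numerical conditions for a character which extends -/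
structure ECond (n : ℕ) (u B C : ℤ) : Prop where
  dvd : n ∣ 1255205709190661721292800
  pos : 0 < n
  h23 : n % 23 = 0 ∨ n % 23 = 1 ∨ n % 23 = 22 ∨ n % 23 = 11 ∨ n % 23 = 12
  h17 : n % 17 = 0 ∨ n % 17 = 1 ∨ n % 17 = 16
  hR : (n : ℤ) * (n + 31671 * B + 275264 * C) = 306936 * u ^ 2
  p1 : 0 ≤ (n : ℤ) + 351 * B - 352 * C
  p2 : 0 ≤ (n : ℤ) - 81 * B + 80 * C
  hu : (n : ℤ) ∣ 306936 * u
  hB : (n : ℤ) ∣ 9720970056 * B
  h3 : (3 : ℤ) ∣ (n : ℤ) - C
  b1 : |B| ≤ n
  u1 : |u| ≤ n
  ne : B ≠ n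
  r11 : R11 n B
  r13 : R13 n B
  h4 : (4 : ℤ) ∣ (n : ℤ) - B

/-- numerical conditions for a character which does not extend -/
structure SCond (n : ℕ) (b c : ℤ) : Prop where
  hR : (n : ℤ) + 31671 * b + 275264 * c = 0
  p1 : 0 ≤ (n : ℤ) + 351 * b - 352 * c
  p2 : 0 ≤ (n : ℤ) - 81 * b + 80 * c
  h3 : (3 : ℤ) ∣ (n : ℤ) - c
  r11 : R11 n b
  r13 : R13 n b

/-- the check for `|u| = v` -/
def chkV4 (n v : ℕ) : Bool :=
  let s : ℤ := ((306936 * v ^ 2 / n : ℕ) : ℤ) - n
  !(s % 391 == 0) ||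
    let k : ℤ := s / 391
    let t₀ : ℤ := (-2 * (n : ℤ) - 88478 * k) / 551232
    (List.range (n / 51000 + 2)).all fun i =>
      let t : ℤ := t₀ + i
      let B : ℤ := 113 * k + 704 * t
      let C : ℤ := -13 * k - 81 * t
      !(decide ((4 : ℤ) ∣ (n : ℤ) - B)) ||
      !(decide (0 ≤ (n : ℤ) + 351 * B - 352 * C)) || !(decide (0 ≤ (n : ℤ) - 81 * B + 80 * C)) ||
        !(decide ((3 : ℤ) ∣ (n : ℤ) - C)) || decide (B = n) || !(decide (B ≤ n)) || !(decide (R11 n B)) ||
        !(decide (R13 n B)) || !(decide ((n : ℤ) ∣ 9720970056 * B))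

/-- the check -/
def chkE4 (n : ℕ) : Bool :=
  let q := n / Nat.gcd n 306936
  (List.range (n / q + 1)).all fun j => chkV4 n (q * j)

theorem chkV4_false {n v : ℕ} {B C : ℤ} (hn : 0 < n)
    (hR : (n : ℤ) * (n + 31671 * B + 275264 * C) = 306936 * (v : ℤ) ^ 2)
    (p1 : 0 ≤ (n : ℤ) + 351 * B - 352 * C) (p2 : 0 ≤ (n : ℤ) - 81 * B + 80 * C) (h3 : (3 : ℤ) ∣ (n : ℤ) - C)
    (hB : (n : ℤ) ∣ 9720970056 * B) (b1 : |B| ≤ n) (ne : B ≠ n) (r11 : R11 n B) (r13 : R13 n B)
    (h4 : (4 : ℤ) ∣ (n : ℤ) - B) : chkV4 n v = false := by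
  have hd : n ∣ 306936 * v ^ 2 := by
    have : (n : ℤ) ∣ ((306936 * v ^ 2 : ℕ) : ℤ) := ⟨_, by push_cast; rw [← hR]⟩
    exact_mod_cast this
  obtain ⟨w, hw⟩ := hd
  have e1 : 306936 * v ^ 2 / n = w := by rw [hw]; exact Nat.mul_div_cancel_left _ hn
  have e3 : (n : ℤ) + 31671 * B + 275264 * C = w := by
    have h1 : ((306936 * v ^ 2 : ℕ) : ℤ) = n * w := by exact_mod_cast hw
    push_cast at h1
    rw [h1] at hR
    exact mul_left_cancel₀ (by exact_mod_cast hn.ne') hR
  have e4 : (w : ℤ) - n = 391 * (81 * B + 704 * C) := by linarith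
  obtain ⟨b2, b3⟩ := abs_le.1 b1
  unfold chkV4
  simp only [e1, e4]
  have e5 : 391 * (81 * B + 704 * C) / 391 = 81 * B + 704 * C := by omega
  have e6 : (391 * (81 * B + 704 * C) % 391 == 0) = true := by rw [beq_iff_eq]; omega
  rw [e5, e6, Bool.not_true, Bool.false_or]
  set k : ℤ := 81 * B + 704 * C with hk
  -- the parameter
  set t : ℤ := -(13 * B + 113 * C) with ht
  have f1 : 113 * k + 704 * t = B := by rw [hk, ht]; ring
  have f2 : -13 * k - 81 * t = C := by rw [hk, ht]; ring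
  have f5 : -(n : ℤ) ≤ 391 * k := by rw [← e4]; have : (0 : ℤ) ≤ w := Int.natCast_nonneg _; omega
  have f6 : 704 * C = k - 81 * B := by rw [hk]; ring
  have f3 : (-2 * (n : ℤ) - 88478 * k) / 551232 ≤ t := by omega
  have f4 : t - (-2 * (n : ℤ) - 88478 * k) / 551232 < n / 51000 + 2 := by omega
  obtain ⟨i, hi⟩ : ∃ i : ℕ, t = (-2 * (n : ℤ) - 88478 * k) / 551232 + i :=
    ⟨(t - (-2 * (n : ℤ) - 88478 * k) / 551232).toNat, by omega⟩
  rw [List.all_eq_false]
  refine ⟨i, List.mem_range.2 (by omega), ?_⟩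
  rw [← hi, f1, f2, decide_eq_true h4, decide_eq_true p1, decide_eq_true p2, decide_eq_true h3, decide_eq_false ne,
    decide_eq_true b3, decide_eq_true r11, decide_eq_true r13, decide_eq_true hB]
  simp

theorem chkE4_false {n : ℕ} {u B C : ℤ} (h : ECond n u B C) : chkE4 n = false := by
  have h0 := h.pos
  have hqd : n / Nat.gcd n 306936 ∣ u.natAbs := by
    have h5 : n ∣ 306936 * u.natAbs := by
      have := Int.natAbs_dvd_natAbs.2 h.hu
      rwa [Int.natAbs_mul, Int.natAbs_natCast] at this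
    have hg : 0 < Nat.gcd n 306936 := Nat.gcd_pos_of_pos_left _ h0
    have h6 : Nat.Coprime (n / Nat.gcd n 306936) (306936 / Nat.gcd n 306936) := Nat.coprime_div_gcd_div_gcd hg
    apply h6.dvd_of_dvd_mul_left
    obtain ⟨g1, hg1⟩ := Nat.gcd_dvd_left n 306936
    obtain ⟨g2, hg2⟩ := Nat.gcd_dvd_right n 306936
    set g := Nat.gcd n 306936 with hgdef
    have e5 : n / g = g1 := by rw [hg1]; exact Nat.mul_div_cancel_left _ hg
    have e6 : 306936 / g = g2 := by rw [hg2]; exact Nat.mul_div_cancel_left _ hg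
    rw [e5, e6]
    rw [hg1, hg2, mul_assoc] at h5
    exact Nat.dvd_of_mul_dvd_mul_left hg h5
  obtain ⟨j, hj⟩ := hqd
  unfold chkE4
  set q := n / Nat.gcd n 306936 with hq
  have hq0 : 0 < q := Nat.div_pos (Nat.le_of_dvd h0 (Nat.gcd_dvd_left _ _)) (Nat.gcd_pos_of_pos_left _ h0)
  have hu' : q * j ≤ n := by
    rw [← hj]
    have : ((u.natAbs : ℕ) : ℤ) ≤ (n : ℤ) := by rw [Int.natCast_natAbs]; exact h.u1
    exact_mod_cast this
  have hj' : j < n / q + 1 := by
    rw [Nat.lt_succ_iff, Nat.le_div_iff_mul_le hq0, mul_comm]; exact hu'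
  rw [List.all_eq_false]
  refine ⟨j, List.mem_range.2 hj', ?_⟩
  rw [chkV4_false h0 (B := B) (C := C) (by rw [h.hR, ← hj, Int.natCast_natAbs, sq_abs]) h.p1 h.p2 h.h3 h.hB h.b1 h.ne
    h.r11 h.r13 h.h4]
  decide

theorem okE_of {n : ℕ} {u B C : ℤ} (h : ECond n u B C) : okE n = true := by
  rw [okE, Bool.and_eq_true, Bool.and_eq_true]
  refine ⟨?_, ?_, ?_⟩
  · rw [beq_iff_eq]; exact Nat.mod_eq_zero_of_dvd h.dvd
  · rcases h.h23 with h | h | h | h | h <;> simp [h]
  · rcases h.h17 with h | h | h <;> simp [h]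

/-! ### Small degrees divisible by 29 -/

/-- the candidates -/
def cw : List ℕ := [783, 1276, 2668, 3451, 3944, 5220, 7395, 7888, 10556, 11339, 14007, 14790, 19227, 20010, 22678,
  26622, 27405, 34017, 34800, 36685]

theorem cw_all : (List.range 1309).all (fun k => k == 0 || k == 299 || !okE (29 * k) || cw.contains (29 * k)) = true := by
  decide +kernel

theorem chk_cw : cw.all chkE4 = true := by decide +kernel

/-- **the small degrees divisible by 29 of the characters which extend** -/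
theorem numE' {n : ℕ} {u B C : ℤ} (h : ECond n u B C) (h29 : 29 ∣ n) (hle : n ≤ 37960) : n = 8671 := by
  by_contra hne
  have h0 := h.pos
  have hmem : n ∈ cw := by
    obtain ⟨k, rfl⟩ := h29
    have hk : k < 1309 := by omega
    have h1 := List.all_eq_true.1 cw_all k (List.mem_range.2 hk)
    have e1 : (k == 0) = false := by rw [beq_eq_false_iff_ne]; omega
    have e2 : (k == 299) = false := by rw [beq_eq_false_iff_ne]; omega
    rw [e1, e2, okE_of h, Bool.not_true, Bool.false_or, Bool.false_or, Bool.false_or, List.contains_iff_mem] at h1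
    exact h1
  have h4 := List.all_eq_true.1 chk_cw n hmem
  rw [chkE4_false h] at h4
  exact absurd h4 (by decide)

/-! ### The window -/

theorem win_all : (List.range 4231).all (fun i =>
    !((64585 + i) % 29 == 0 || (64585 + i) % 29 == 1 || (64585 + i) % 29 == 28) || !okE (64585 + i) ||
      i == 3449 || i == 781) = true := by
  decide +kernel

theorem chk_65366 : chkE4 65366 = true := by decide +kernel

/-- **the degrees in the window of the characters which extend** -/
theorem numEW {n : ℕ} {u B C : ℤ} (h : ECond n u B C) (h29 : n % 29 = 0 ∨ n % 29 = 1 ∨ n % 29 = 28) (hl : 64585 ≤ n)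
    (hle : n ≤ 68815) : n = 68034 := by
  obtain ⟨i, rfl⟩ := Nat.exists_eq_add_of_le hl
  have hi : i < 4231 := by omega
  have h1 := List.all_eq_true.1 win_all i (List.mem_range.2 hi)
  have e1 : ((64585 + i) % 29 == 0 || (64585 + i) % 29 == 1 || (64585 + i) % 29 == 28) = true := by
    rcases h29 with h2 | h2 | h2 <;> simp [h2]
  rw [e1, okE_of h, Bool.not_true, Bool.false_or, Bool.false_or] at h1
  simp only [Bool.or_eq_true, beq_iff_eq] at h1
  rcases h1 with h1 | h1
  · omega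
  · subst h1
    have h2 := chkE4_false h
    rw [show 64585 + 781 = 65366 from rfl, chk_65366] at h2
    exact absurd h2 (by decide)

/-! ### Characters which do not extend -/

theorem chkS3_all' : [29, 58, 87, 174].all chkS3 = true := by decide +kernel

theorem numS1 {k : ℕ} {b c : ℤ} (h4 : chkS3 k = true)
    (hR : (391 * (k : ℤ)) + 31671 * b + 275264 * c = 0) (p1 : 0 ≤ (391 * (k : ℤ)) + 351 * b - 352 * c)
    (p2 : 0 ≤ (391 * (k : ℤ)) - 81 * b + 80 * c) (h3 : (3 : ℤ) ∣ (391 * (k : ℤ)) - c) (r11 : R11 (391 * (k : ℤ)) b)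
    (r13 : R13 (391 * (k : ℤ)) b) : False := by
  rw [chkS3] at h4
  have hkk : (k : ℤ) + 81 * b + 704 * c = 0 := by linarith
  have g1 : -(k : ℤ) ≤ c := by omega
  have g2 : c ≤ k := by omega
  have hi : (c + k).toNat < 2 * k + 1 := by omega
  have h5 := List.all_eq_true.1 h4 _ (List.mem_range.2 hi)
  have e4 : (((c + k).toNat : ℕ) : ℤ) - k = c := by omega
  simp only [e4] at h5
  have e5 : -(k : ℤ) - 704 * c = 81 * b := by linarith
  rw [e5] at h5
  have e6 : 81 * b / 81 = b := by omega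
  have e7 : (81 * b % 81 == 0) = true := by rw [beq_iff_eq]; omega
  rw [e6, e7, decide_eq_true p1, decide_eq_true p2, decide_eq_true h3, decide_eq_true r11, decide_eq_true r13] at h5
  simp at h5

/-- **the degrees divisible by 29 of the characters which do not extend** -/
theorem numS' {n : ℕ} {b c : ℤ} (h : SCond n b c) (h29 : 29 ∣ n) (h0 : 0 < n) (hle : n ≤ 37960 ∨ (64585 ≤ n ∧ n ≤ 68815)) :
    False := by
  obtain ⟨hR, p1, p2, h3, r11, r13⟩ := h
  obtain ⟨k, hk⟩ : ∃ k : ℕ, n = 391 * k := by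
    have : (391 : ℤ) ∣ (n : ℤ) := ⟨-(81 * b + 704 * c), by linarith⟩
    exact_mod_cast this
  subst hk
  have hk0 : k ≠ 0 := by rintro rfl; simp at h0
  have h29k : 29 ∣ k := by
    have : Nat.Coprime 29 391 := by norm_num
    exact this.dvd_of_dvd_mul_left h29
  have hk' : k ∈ [29, 58, 87, 174] := by
    simp only [List.mem_cons, List.not_mem_nil, or_false]
    omega
  push_cast at hR p1 p2 h3 r11 r13
  exact numS1 (List.all_eq_true.1 chkS3_all' k hk') hR p1 p2 h3 r11 r13

end Cfsg.Agent.H871.LD
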