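import Cfsg.Agent.H871.LD.Deg8671
import Cfsg.Agent.H871.LD.NumW
import Cfsg.Agent.H174.Ore.TransRk

/-!
# The degree 8671 of `Fi24'`, second form (helper871)

* `deg_small'` : an irreducible character of `Fi24'` of degree at most 37960 divisible by 29 has degree 8671;
* `deg_8671'` : if `Fi24'` has a character of odd degree between 64595 and 68815 whose values at the elements of order 29
  are even integers of absolute value at most 9, then it has an irreducible character of degree 8671;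
* `deg_8671''` : the same for a degree between 64595 and 68020 without the parities.
-/

set_option autoImplicit false
set_option linter.unusedSectionVars false

open Cfsg
open scoped ComplexConjugate

namespace Cfsg.Agent.H871.LD

open Subgroup
open Cfsg.Agent.Characters Cfsg.Agent.Characters.Core Cfsg.Agent.OddOrderCharacters
open Cfsg.Agent.H26.Ore.Fi24Deg
open Cfsg.Agent.R08.FiTwentyFour (L index_commutator card_commutator finite_Fi24)
open Cfsg.Agent.H48.OreFi (finite')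
open Cfsg.Agent.H845.T13 (facts)
open Cfsg.Agent.H26.Ore

/-- **characters which extend** -/
theorem exists_econd {χ : IrrCharacter Spor.Fi24'} {psi : IrrCharacter Spor.Fi24} (hne : (χ : Spor.Fi24' → ℂ) ≠ 1)
    (h : ∀ g : Spor.Fi24', (psi : Spor.Fi24 → ℂ) (g : Spor.Fi24) = (χ : Spor.Fi24' → ℂ) g) :
    ∃ u B C : ℤ, ECond (charDegree (χ : Spor.Fi24' → ℂ)) u B C := by
  have hfin : Finite Spor.Fi24' := finite'
  have hfin' := finite_Fi24
  have hsim := simple_F'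
  obtain ⟨n, u, B, C, V⟩ := H180.PSD.exists_vals psi
  have hχ1 : (χ : Spor.Fi24' → ℂ) 1 = (charDegree (χ : Spor.Fi24' → ℂ) : ℂ) := Blocks.Knorr.charDegree_eq χ.2
  set N := charDegree (χ : Spor.Fi24' → ℂ) with hN
  have h1 := h 1
  rw [OneMemClass.coe_one, V.one, hχ1] at h1
  have hnN : n = N := by exact_mod_cast h1
  subst hnN
  have hz13 : (χ : Spor.Fi24' → ℂ) z13 = B := by rw [← h]; exact val_z13 V
  have hz11 : (χ : Spor.Fi24' → ℂ) H843.Ore.R11.z = B := by rw [← h]; exact val_z11 V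
  have hpos : 0 < N := by exact_mod_cast V.pos
  refine ⟨u, B, C, ⟨?_, hpos, res23 χ, res17 χ, V.rel, V.psd1, V.psd2, V.dvd_u, ?_,
    three_psi V, abs_le χ hχ1 hz13, ?_, ?_, H843.Ore.R11.r11 χ hχ1 hz11, ?_, ?_⟩⟩
  · rw [← card_F']
    exact Blocks.Knorr.charDegree_dvd χ.2
  · obtain ⟨c, hc⟩ := V.dvd_B
    exact ⟨2 * c, by linarith⟩
  · exact abs_le psi (by rw [V.one]; norm_cast) (V.val_d _ facts.hl)
  · intro hB
    have := Fintype.ofFinite Spor.Fi24'
    have h2 := SmallSimple.DihedralNormalizer.eq_one_of_apply_eq χ.2 hne (s := z13) (by rw [hz13, hχ1, hB]; norm_cast)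
    have h3 : (z13 : Spor.Fi24) = 1 := congrArg (fun y : Spor.Fi24' => (y : Spor.Fi24)) h2
    have h4 : H845.T13.u = (Cfsg.Agent.Fischer.Fi24Rep.gen .l)⁻¹ := eq_inv_of_mul_eq_one_right h3
    exact lu_ne (h4.trans (inv_eq_of_mul_eq_one_right facts.ll)).symm
  · exact R13.r13 facts index_commutator (fun d hd => R08.FiTwentyFour.odd hd) _ χ hχ1 hz13
  · obtain ⟨m, hm⟩ := H174.Ore.Rk.mult_four (isIrr_isCharacter psi.2) facts.ll facts.uu facts.lu (ε := 1) (δ := -1)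
      (by norm_num) (by norm_num)
    rw [V.one, V.val_d _ facts.hl, V.val_d _ facts.hu,
      show (psi : Spor.Fi24 → ℂ) (Cfsg.Agent.Fischer.Fi24Rep.gen .l * H845.T13.u) = B from val_z13 V] at hm
    refine ⟨m, ?_⟩
    have : (((N : ℤ) - B : ℤ) : ℂ) = ((4 * (m : ℤ) : ℤ) : ℂ) := by
      push_cast
      push_cast at hm
      linear_combination hm
    exact_mod_cast this

/-- **characters which do not extend** -/
theorem exists_scond {χ : IrrCharacter Spor.Fi24'} {psi : IrrCharacter Spor.Fi24}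
    (h0 : ∀ g : Spor.Fi24, g ∉ commutator Spor.Fi24 → (psi : Spor.Fi24 → ℂ) g = 0)
    (h2 : ∀ g : Spor.Fi24', ∀ t : Spor.Fi24, t ∉ commutator Spor.Fi24 → Commute t (g : Spor.Fi24) →
      (psi : Spor.Fi24 → ℂ) (g : Spor.Fi24) = 2 * (χ : Spor.Fi24' → ℂ) g) :
    0 < charDegree (χ : Spor.Fi24' → ℂ) ∧ ∃ b c : ℤ, SCond (charDegree (χ : Spor.Fi24' → ℂ)) b c := by
  have hfin : Finite Spor.Fi24' := finite'
  have hfin' := finite_Fi24
  obtain ⟨n, u, B, C, V⟩ := H180.PSD.exists_vals psi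
  have hχ1 : (χ : Spor.Fi24' → ℂ) 1 = (charDegree (χ : Spor.Fi24' → ℂ) : ℂ) := Blocks.Knorr.charDegree_eq χ.2
  set N := charDegree (χ : Spor.Fi24' → ℂ) with hN
  have hl : Cfsg.Agent.Fischer.Fi24Rep.gen .l ∉ commutator Spor.Fi24 := R08.FiTwentyFour.odd facts.hl
  have h1 := h2 1 _ hl (Commute.one_right _)
  rw [OneMemClass.coe_one, V.one, hχ1] at h1
  have hnN : n = 2 * N := by exact_mod_cast h1
  subst hnN
  have hu : u = 0 := by
    have h3 := V.val_d _ facts.hl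
    rw [h0 _ hl] at h3
    exact_mod_cast h3.symm
  subst hu
  have e13 := h2 z13 _ hl (by
    show Commute _ (_ * _)
    exact (Commute.refl _).mul_right facts.lu)
  have e11 := h2 H843.Ore.R11.z _ (R08.FiTwentyFour.odd H843.Ore.R11.t1_mem) (by
    show Commute _ (_ * _)
    exact (Commute.refl _).mul_right H843.D11.c12)
  rw [val_z13 V] at e13
  rw [val_z11 V] at e11
  have hzz : z13 * z13 = 1 := by
    apply Subtype.ext
    have h3 : Commute (Cfsg.Agent.Fischer.Fi24Rep.gen .l) H845.T13.u := facts.lu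
    show Cfsg.Agent.Fischer.Fi24Rep.gen .l * H845.T13.u * (Cfsg.Agent.Fischer.Fi24Rep.gen .l * H845.T13.u) = 1
    rw [h3.symm.mul_mul_mul_comm, facts.ll, facts.uu, mul_one]
  obtain ⟨b, hb⟩ := Nrm.exists_int_invol (isIrr_isCharacter χ.2) hzz
  rw [hb] at e13
  have hB : B = 2 * b := by exact_mod_cast e13
  subst hB
  have hb11 : (χ : Spor.Fi24' → ℂ) H843.Ore.R11.z = b := by
    push_cast at e11
    linear_combination -(1 / 2) * e11
  set w : Spor.Fi24' := ⟨_, R08.FiTwentyFour.even facts.hl facts.hk⟩ with hw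
  have ew := h2 w _ (R08.FiTwentyFour.odd facts.hu) (by
    show Commute _ (_ * _)
    exact (show Commute _ _ from facts.lu.symm).mul_right (show Commute _ _ from facts.ku.symm))
  rw [show (psi : Spor.Fi24 → ℂ) (w : Spor.Fi24) = C from V.val_n _ facts.hl _ facts.hk facts.lkn] at ew
  obtain ⟨c, hc⟩ := Characters.GaloisBasic.exists_int_of_rat (isIrr_isCharacter χ.2) w
    ⟨(C : ℚ) / 2, by push_cast; linear_combination -(1 / 2) * ew⟩
  rw [hc] at ew
  have hC : C = 2 * c := by exact_mod_cast ew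
  subst hC
  have hpos := V.pos
  have hrel : (N : ℤ) + 31671 * b + 275264 * c = 0 := by
    have h3 := V.rel
    have h4 : (2 * (N : ℤ)) * (2 * ((N : ℤ) + 31671 * b + 275264 * c)) = 0 := by linarith
    rcases mul_eq_zero.1 h4 with h5 | h5 <;> omega
  have p1 := V.psd1
  have p2 := V.psd2
  have h3 := three_psi V
  exact ⟨by omega, b, c, ⟨hrel, by omega, by omega, by omega, H843.Ore.R11.r11 χ hχ1 hb11,
    R13.r13 facts index_commutator (fun d hd => R08.FiTwentyFour.odd hd) _ χ hχ1 hb⟩⟩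

theorem ne_one_of_dvd {χ : IrrCharacter Spor.Fi24'} (h29 : 29 ∣ charDegree (χ : Spor.Fi24' → ℂ)) :
    (χ : Spor.Fi24' → ℂ) ≠ 1 := by
  intro h1
  have h2 : charDegree (χ : Spor.Fi24' → ℂ) = 1 := by
    rw [h1]
    simp [charDegree]
  rw [h2] at h29
  norm_num at h29

/-- **The small degrees divisible by 29** -/
theorem deg_small' (χ : IrrCharacter Spor.Fi24') (h29 : 29 ∣ charDegree (χ : Spor.Fi24' → ℂ))
    (hle : charDegree (χ : Spor.Fi24' → ℂ) ≤ 37960) : charDegree (χ : Spor.Fi24' → ℂ) = 8671 := by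
  have hfin' := finite_Fi24
  obtain ⟨psi, hpsi, h | ⟨h0, h2⟩⟩ := index_two (commutator Spor.Fi24) index_commutator χ.2
  · obtain ⟨u, B, C, hE⟩ := exists_econd (psi := ⟨psi, hpsi⟩) (ne_one_of_dvd h29) h
    exact numE' hE h29 hle
  · obtain ⟨hp, b, c, hS⟩ := exists_scond (χ := χ) (psi := ⟨psi, hpsi⟩) h0 h2
    exact (numS' hS h29 hp (Or.inl hle)).elim

/-- **The window** -/
theorem deg_win (χ : IrrCharacter Spor.Fi24') (h29 : 29 ∣ charDegree (χ : Spor.Fi24' → ℂ) ∨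
      charDegree (χ : Spor.Fi24' → ℂ) % 29 = 1 ∨ charDegree (χ : Spor.Fi24' → ℂ) % 29 = 28)
    (hl : 64585 ≤ charDegree (χ : Spor.Fi24' → ℂ)) (hle : charDegree (χ : Spor.Fi24' → ℂ) ≤ 68815) :
    charDegree (χ : Spor.Fi24' → ℂ) = 68034 := by
  have hfin' := finite_Fi24
  have hne : (χ : Spor.Fi24' → ℂ) ≠ 1 := by
    intro h1
    have h2 : charDegree (χ : Spor.Fi24' → ℂ) = 1 := by
      rw [h1]
      simp [charDegree]
    omega
  obtain ⟨psi, hpsi, h | ⟨h0, h2⟩⟩ := index_two (commutator Spor.Fi24) index_commutator χ.2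
  · obtain ⟨u, B, C, hE⟩ := exists_econd (psi := ⟨psi, hpsi⟩) hne h
    exact numEW hE (by omega) hl hle
  · exfalso
    rcases h29 with h29 | h29
    · obtain ⟨hp, b, c, hS⟩ := exists_scond (χ := χ) (psi := ⟨psi, hpsi⟩) h0 h2
      exact numS' hS h29 hp (Or.inr ⟨hl, hle⟩)
    · rcases caseS (χ := χ) (psi := ⟨psi, hpsi⟩) h0 h2 (by tauto) with h | h <;> omega

/-- the common part of the two forms -/
theorem core {W : Spor.Fi24' → ℂ} {w : ℕ} (hWc : IsCharacter Spor.Fi24' W) (hW1 : W 1 = w) (hwl : 64595 ≤ w)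
    (hwu : w ≤ 68815) (hW29 : ∀ x : Spor.Fi24', orderOf x = 29 → ∃ v : ℤ, W x = v ∧ |v| ≤ 9)
    (hno : ∀ χ : IrrCharacter Spor.Fi24', charDegree (χ : Spor.Fi24' → ℂ) ≠ 8671) :
    ∃ a : ℕ, w = a + 68034 ∧ ∀ x : Spor.Fi24', orderOf x = 29 → W x = a := by
  classical
  have hfin : Finite Spor.Fi24' := finite'
  have := simple_F'
  have : Finite (IrrCharacter Spor.Fi24') := finite_irr
  have := Fintype.ofFinite (IrrCharacter Spor.Fi24')
  have : Fact (Nat.Prime 29) := ⟨by norm_num⟩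
  obtain ⟨x, hx, hc⟩ := H161.Rec.FiTF.cent29
  obtain ⟨P, Wc, hP, -, hcol, hok⟩ := H653.Sieve.exists_col not_comm card_F' hx (k := 1) (by rw [hc]) 14 2
    [(0, 0), (1, 2), (14, -1), (15, 1), (28, -2)] 2 true (by decide +kernel)
  obtain ⟨m, hm⟩ := exists_nat_comb hWc
  have hdeg : ∀ ψ : IrrCharacter Spor.Fi24', (ψ : Spor.Fi24' → ℂ) 1 = (charDegree (ψ : Spor.Fi24' → ℂ) : ℂ) :=
    fun ψ => Blocks.Knorr.charDegree_eq ψ.2
  have hval : ∀ g : Spor.Fi24', W g = ∑ ψ : IrrCharacter Spor.Fi24', (m ψ : ℂ) * (ψ : Spor.Fi24' → ℂ) g := by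
    intro g
    rw [hm, Finset.sum_apply]
    exact Finset.sum_congr rfl fun ψ _ => by rw [Pi.smul_apply, nsmul_eq_mul]
  -- the degree
  have s1 : ∑ ψ : IrrCharacter Spor.Fi24', m ψ * charDegree (ψ : Spor.Fi24' → ℂ) = w := by
    have h := hval 1
    rw [hW1] at h
    have h' : ((w : ℕ) : ℂ) = ((∑ ψ : IrrCharacter Spor.Fi24', m ψ * charDegree (ψ : Spor.Fi24' → ℂ) : ℕ) : ℂ) := by
      push_cast
      rw [h]
      exact Finset.sum_congr rfl fun ψ _ => by rw [hdeg]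
    exact_mod_cast h'.symm
  -- the sum over the subgroup of order 29
  have := Fintype.ofFinite (P : Subgroup Spor.Fi24')
  have hP29 : ∀ y : ↥(P : Subgroup Spor.Fi24'), y ≠ 1 → orderOf (y : Spor.Fi24') = 29 := by
    intro y hy1
    rw [Subgroup.orderOf_coe]
    have h5 : y ^ Nat.card (P : Subgroup Spor.Fi24') = 1 := pow_card_eq_one'
    rw [hP] at h5
    exact orderOf_eq_prime h5 hy1
  obtain ⟨v, hv⟩ : ∃ v : ↥(P : Subgroup Spor.Fi24') → ℤ, ∀ y : ↥(P : Subgroup Spor.Fi24'), y ≠ 1 → W (y : Spor.Fi24') = v y ∧ |v y| ≤ 9 := by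
    refine ⟨fun y => if hy : y = 1 then 0 else (hW29 _ (hP29 y hy)).choose, fun y hy => ?_⟩
    simp only [dif_neg hy]
    exact (hW29 _ (hP29 y hy)).choose_spec
  have hsum : H653.Sieve.csum (P : Subgroup Spor.Fi24') W =
      ((∑ y ∈ (Finset.univ : Finset ↥(P : Subgroup Spor.Fi24')).erase 1, v y : ℤ) : ℂ) := by
    rw [H653.Sieve.csum_eq_erase]
    push_cast
    exact Finset.sum_congr rfl fun y hy => (hv y (Finset.mem_erase.1 hy).1).1
  have hbd : |∑ y ∈ (Finset.univ : Finset ↥(P : Subgroup Spor.Fi24')).erase 1, v y| ≤ 252 := by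
    refine (Finset.abs_sum_le_sum_abs _ _).trans ?_
    refine (Finset.sum_le_card_nsmul _ _ 9 fun y hy => (hv y (Finset.mem_erase.1 hy).1).2).trans ?_
    rw [Finset.card_erase_of_mem (Finset.mem_univ _), Finset.card_univ, ← Nat.card_eq_fintype_card, hP]
    norm_num
  have s2 : 14 * ∑ ψ : IrrCharacter Spor.Fi24', (m ψ : ℤ) * Wc ψ =
      ∑ y ∈ (Finset.univ : Finset ↥(P : Subgroup Spor.Fi24')).erase 1, v y := by
    have h1 : H653.Sieve.csum (P : Subgroup Spor.Fi24') W =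
        ∑ ψ : IrrCharacter Spor.Fi24', (m ψ : ℂ) * H653.Sieve.csum (P : Subgroup Spor.Fi24') (ψ : Spor.Fi24' → ℂ) := by
      simp only [H653.Sieve.csum_eq, hval, mul_sub, Finset.mul_sum, Finset.sum_sub_distrib]
      rw [Finset.sum_comm]
    rw [hsum] at h1
    have h2 : ((14 * ∑ ψ : IrrCharacter Spor.Fi24', (m ψ : ℤ) * Wc ψ : ℤ) : ℂ) =
        ((∑ y ∈ (Finset.univ : Finset ↥(P : Subgroup Spor.Fi24')).erase 1, v y : ℤ) : ℂ) := by
      rw [h1]
      push_cast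
      rw [Finset.mul_sum]
      refine Finset.sum_congr rfl fun ψ _ => ?_
      rw [← hcol ψ]
      push_cast
      ring
    exact_mod_cast h2
  -- the trivial character
  obtain ⟨o, ho⟩ : ∃ o : IrrCharacter Spor.Fi24', (o : Spor.Fi24' → ℂ) = 1 := ⟨⟨1, isIrr_one⟩, rfl⟩
  have hdo : charDegree (o : Spor.Fi24' → ℂ) = 1 := by
    rw [ho]; simp [charDegree]
  have hWo : Wc o = 2 := hok.one o ho
  -- the degrees of the other constituents
  have big : ∀ ψ : IrrCharacter Spor.Fi24', ψ ≠ o → charDegree (ψ : Spor.Fi24' → ℂ) ≤ 68815 →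
      37961 ≤ charDegree (ψ : Spor.Fi24' → ℂ) ∧
        ((29 ∣ charDegree (ψ : Spor.Fi24' → ℂ) ∧ Wc ψ = 0) ∨ (charDegree (ψ : Spor.Fi24' → ℂ) % 29 = 1 ∧ Wc ψ = 2) ∨
          (charDegree (ψ : Spor.Fi24' → ℂ) % 29 = 28 ∧ Wc ψ = -2)) := by
    intro ψ hψ hle
    have hψ1 : (ψ : Spor.Fi24' → ℂ) ≠ 1 := fun h => hψ (Subtype.ext (h.trans ho.symm))
    have hmem := hok.mem ψ
    have hmem' : (charDegree (ψ : Spor.Fi24' → ℂ) % 29, Wc ψ) ∈
        ([(0, 0), (1, 2), (14, -1), (15, 1), (28, -2)] : List (ℕ × ℤ)) := hmem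
    simp only [List.mem_cons, Prod.mk.injEq, List.not_mem_nil, or_false] at hmem'
    rcases hmem' with ⟨h, hw⟩ | ⟨h, hw⟩ | ⟨h, hw⟩ | ⟨h, hw⟩ | ⟨h, hw⟩
    · refine ⟨?_, Or.inl ⟨Nat.dvd_of_mod_eq_zero h, hw⟩⟩
      by_contra hlt
      exact hno ψ (deg_small' ψ (Nat.dvd_of_mod_eq_zero h) (by omega))
    · exact ⟨by have := hDN ψ hψ1 (Or.inl h); omega, Or.inr (Or.inl ⟨h, hw⟩)⟩
    · have := hDX ψ hψ1 (Or.inl h); omega
    · have := hDX ψ hψ1 (Or.inr h); omega
    · exact ⟨by have := hDN ψ hψ1 (Or.inr h); omega, Or.inr (Or.inr ⟨h, hw⟩)⟩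
  have hle : ∀ ψ : IrrCharacter Spor.Fi24', m ψ ≠ 0 → charDegree (ψ : Spor.Fi24' → ℂ) ≤ 68815 := by
    intro ψ hψ
    refine le_trans ?_ hwu
    rw [← s1]
    refine le_trans ?_ (Finset.single_le_sum (f := fun ψ => m ψ * charDegree (ψ : Spor.Fi24' → ℂ))
      (fun _ _ => Nat.zero_le _) (Finset.mem_univ ψ))
    exact Nat.le_mul_of_pos_left _ (Nat.pos_of_ne_zero hψ)
  -- split off the trivial character
  have t1 : m o + ∑ ψ ∈ Finset.univ.erase o, m ψ * charDegree (ψ : Spor.Fi24' → ℂ) = w := by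
    rw [← s1, ← Finset.add_sum_erase _ _ (Finset.mem_univ o), hdo, mul_one]
  have t2 : ∑ ψ : IrrCharacter Spor.Fi24', (m ψ : ℤ) * Wc ψ =
      2 * (m o : ℤ) + ∑ ψ ∈ Finset.univ.erase o, (m ψ : ℤ) * Wc ψ := by
    rw [← Finset.add_sum_erase _ _ (Finset.mem_univ o), hWo]
    ring
  rw [t2] at s2
  have hb2 := abs_le.1 hbd
  have hS : ∑ ψ ∈ Finset.univ.erase o, m ψ ≤ 1 := by
    have h1 : (∑ ψ ∈ Finset.univ.erase o, m ψ) * 37961 ≤
        ∑ ψ ∈ Finset.univ.erase o, m ψ * charDegree (ψ : Spor.Fi24' → ℂ) := by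
      rw [Finset.sum_mul]
      refine Finset.sum_le_sum fun ψ hψ => ?_
      by_cases h0 : m ψ = 0
      · rw [h0, Nat.zero_mul, Nat.zero_mul]
      · exact Nat.mul_le_mul_left _ (big ψ (Finset.mem_erase.1 hψ).1 (hle ψ h0)).1
    omega
  by_cases hz : ∀ ψ ∈ Finset.univ.erase o, m ψ = 0
  · rw [Finset.sum_eq_zero fun ψ hψ => by rw [hz ψ hψ, zero_mul]] at t1
    rw [Finset.sum_eq_zero fun ψ hψ => by rw [hz ψ hψ, Nat.cast_zero, zero_mul]] at s2
    omega
  · push Not at hz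
    obtain ⟨φ, hφ, hφ0⟩ := hz
    have hφo := (Finset.mem_erase.1 hφ).1
    have hother : ∀ ψ ∈ Finset.univ.erase o, ψ ≠ φ → m ψ = 0 := by
      intro ψ hψ hne
      by_contra h0
      have h1 : m φ + m ψ ≤ ∑ ψ ∈ Finset.univ.erase o, m ψ := by
        rw [← Finset.sum_pair (f := m) hne.symm]
        refine Finset.sum_le_sum_of_subset ?_
        intro a ha
        rw [Finset.mem_insert, Finset.mem_singleton] at ha
        rcases ha with rfl | rfl
        · exact hφ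
        · exact hψ
      omega
    have hφ1 : m φ = 1 := by
      have h1 : m φ ≤ ∑ ψ ∈ Finset.univ.erase o, m ψ :=
        Finset.single_le_sum (f := m) (fun _ _ => Nat.zero_le _) hφ
      omega
    rw [Finset.sum_eq_single_of_mem φ hφ fun ψ hψ hne => by rw [hother ψ hψ hne, zero_mul], hφ1, one_mul] at t1
    rw [Finset.sum_eq_single_of_mem φ hφ fun ψ hψ hne => by rw [hother ψ hψ hne, Nat.cast_zero, zero_mul], hφ1,
      Nat.cast_one, one_mul] at s2
    obtain ⟨-, hbig⟩ := big φ hφo (by omega)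
    have hN : charDegree (φ : Spor.Fi24' → ℂ) = 68034 :=
      deg_win φ (by tauto) (by omega) (by omega)
    refine ⟨m o, by omega, fun y hy => ?_⟩
    have h0 : (φ : Spor.Fi24' → ℂ) y = 0 := by
      obtain ⟨k, ρ, hρ, he⟩ := φ.2
      have e1 : (φ : Spor.Fi24' → ℂ) 1 = (Module.finrank ℂ (Fin k → ℂ) : ℂ) := by
        rw [← he]; exact Representation.char_one ρ
      have e2 : charDegree (φ : Spor.Fi24' → ℂ) = Module.finrank ℂ (Fin k → ℂ) := Blocks.Knorr.charDegree_of_natCast e1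
      rw [← he]
      refine S0165.result ρ 29 1 (by norm_num) ?_ ?_ ?_ y ?_
      · rw [card_F']; norm_num
      · rw [card_F']; norm_num
      · rw [← e2, hN]; norm_num
      · rw [hy]
    rw [hval, ← Finset.add_sum_erase _ _ (Finset.mem_univ o), Finset.sum_eq_single_of_mem φ hφ fun ψ hψ hne => by
      rw [hother ψ hψ hne, Nat.cast_zero, zero_mul], h0, mul_zero, add_zero, ho]
    simp

/-- **The degree 8671, second form** -/
theorem deg_8671' (hW : ∃ (W : Spor.Fi24' → ℂ) (w : ℕ), IsCharacter Spor.Fi24' W ∧ W 1 = w ∧ Odd w ∧ 64595 ≤ w ∧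
    w ≤ 68815 ∧ ∀ x : Spor.Fi24', orderOf x = 29 → ∃ v : ℤ, W x = v ∧ Even v ∧ |v| ≤ 9) :
    ∃ χ : IrrCharacter Spor.Fi24', charDegree (χ : Spor.Fi24' → ℂ) = 8671 := by
  by_contra hno
  push Not at hno
  obtain ⟨W, w, hWc, hW1, hodd, h1, h2, hW29⟩ := hW
  obtain ⟨a, ha, hv⟩ := core hWc hW1 h1 h2 (fun x hx => by
    obtain ⟨v, e1, -, e3⟩ := hW29 x hx
    exact ⟨v, e1, e3⟩) hno
  obtain ⟨x, hx, -⟩ := H161.Rec.FiTF.cent29
  obtain ⟨v, e1, e2, -⟩ := hW29 x hx
  rw [hv x hx] at e1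
  have e3 : (a : ℤ) = v := by exact_mod_cast e1
  rw [← e3] at e2
  rw [Nat.odd_iff] at hodd
  rw [Int.even_iff] at e2
  omega

/-- **The degree 8671, third form** -/
theorem deg_8671'' (hW : ∃ (W : Spor.Fi24' → ℂ) (w : ℕ), IsCharacter Spor.Fi24' W ∧ W 1 = w ∧ 64595 ≤ w ∧
    w ≤ 68033 ∧ ∀ x : Spor.Fi24', orderOf x = 29 → ∃ v : ℤ, W x = v ∧ |v| ≤ 9) :
    ∃ χ : IrrCharacter Spor.Fi24', charDegree (χ : Spor.Fi24' → ℂ) = 8671 := by
  by_contra hno
  push Not at hno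
  obtain ⟨W, w, hWc, hW1, h1, h2, hW29⟩ := hW
  obtain ⟨a, ha, -⟩ := core hWc hW1 h1 (by omega) hW29 hno
  omega

end Cfsg.Agent.H871.LD
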